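import Groth.Agent.ProjBunLib.Props
import Groth.Agent.ProjBunLib.Filt
import Groth.Agent.ModifLib.Join
import Groth.Agent.EtShLib.StrataTop
import Groth.Agent.ResPropLib.VB

/-! A locally free module is filtered by invertible quotients after a modification. -/

set_option autoImplicit false
set_option linter.style.haveILetI false
set_option linter.unusedSectionVars false
set_option backward.isDefEq.respectTransparency false

universe u

open AlgebraicGeometry CategoryTheory CategoryTheory.Limits Opposite TopologicalSpace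
open KFlatLib (pb)

noncomputable section

namespace Groth.Agent.ModFiltLib

variable {X : Scheme.{u}}

/-- After a modification a module of positive rank has an invertible quotient. -/
theorem exists_invertible_quotient [IsIntegral X] {n : ℕ} {E : X.Modules}
    (hE : FlatMod.IsFinLocFreeOfRank (n + 1) E) :
    ∃ (X' : Scheme.{u}) (f : X' ⟶ X) (_ : IsIntegral X') (_ : IsProper f) (U : X.Opens)
      (L : X'.Modules) (q : pb f E ⟶ L),
      (U : Set X).Nonempty ∧ IsIso (f ∣_ U) ∧ Epi q ∧ FlatMod.IsFinLocFreeOfRank 1 L := by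
  obtain ⟨P, π, O1, q, hP⟩ := ProjBunLib.exists_isProjBundle hE
  haveI := hP.epi
  haveI : IsProper π := ProjBunLib.isProper hP hE
  obtain ⟨U, hηU, ⟨e⟩⟩ := hE (genericPoint X)
  haveI : Nonempty U := ⟨⟨_, hηU⟩⟩
  -- a rational section
  have hfree : ∀ m, FlatMod.IsFinLocFreeOfRank m (FlatMod.freeMod (U : Scheme.{u}) m) := fun m x =>
    ⟨⊤, trivial, ⟨(Scheme.Modules.restrictFunctorIsoPullback (⊤ : (U : Scheme.{u}).Opens).ι).app _ ≪≫
      KFlatLib.pullFreeIso (⊤ : (U : Scheme.{u}).Opens).ι m⟩⟩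
  let pr : FlatMod.freeMod (U : Scheme.{u}) (n + 1) ⟶ FlatMod.freeMod (U : Scheme.{u}) 1 :=
    Sigma.desc fun _ => Sigma.ι (fun _ : Fin 1 => Coh.structureModule (U : Scheme.{u})) 0
  haveI : Epi pr := by
    let i₁ : FlatMod.freeMod (U : Scheme.{u}) 1 ⟶ FlatMod.freeMod (U : Scheme.{u}) (n + 1) :=
      Sigma.desc fun _ => Sigma.ι (fun _ : Fin (n + 1) => Coh.structureModule (U : Scheme.{u})) 0
    have hi : i₁ ≫ pr = 𝟙 _ := Sigma.hom_ext _ _ fun i => by
      rw [Subsingleton.elim i 0]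
      simp [i₁, pr]
    exact (IsSplitEpi.mk' ⟨i₁, hi⟩).epi
  let s₀ : pb U.ι E ⟶ FlatMod.freeMod (U : Scheme.{u}) 1 :=
    ((Scheme.Modules.restrictFunctorIsoPullback U.ι).app E).inv ≫ e.hom ≫ pr
  haveI : Epi s₀ := inferInstance
  obtain ⟨s, ⟨hs, -, -⟩, -⟩ := hP.univ _ U.ι _ (hfree 1) s₀ inferInstance
  -- the closure of its image
  let Z : Closeds P := ⟨closure (Set.range s), isClosed_closure⟩
  have hirr : IsIrreducible (closure (Set.range s)) := by
    have := ((irreducibleSpace_def _).1 (inferInstance : IrreducibleSpace (U : Scheme.{u}))).image s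
      s.continuous.continuousOn
    rw [Set.top_eq_univ, Set.image_univ] at this
    exact this.closure
  haveI := AmpleDevLib.isIntegral_vanishingIdeal Z hirr
  let c := (Scheme.IdealSheafData.vanishingIdeal Z).subschemeι
  have hcr : Set.range c = closure (Set.range s) :=
    (Scheme.IdealSheafData.range_subschemeι _).trans (Scheme.IdealSheafData.coe_support_vanishingIdeal _)
  obtain ⟨σ, hσ⟩ := EtShLib.exists_lift_immersion c s (hcr ▸ subset_closure)
  let f := c ≫ π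
  have hσf : σ ≫ f = U.ι := by rw [← Category.assoc, hσ, hs]
  have hσU : Set.range σ ⊆ (f ⁻¹ᵁ U : Set _) := by
    rintro _ ⟨a, rfl⟩
    show f (σ a) ∈ U
    rw [← Scheme.Hom.comp_apply, hσf]
    exact a.2
  let τ : (U : Scheme.{u}) ⟶ (f ⁻¹ᵁ U).toScheme :=
    IsOpenImmersion.lift (f ⁻¹ᵁ U).ι σ (by rwa [Scheme.Opens.range_ι])
  have hτ : τ ≫ (f ⁻¹ᵁ U).ι = σ := IsOpenImmersion.lift_fac _ _ _
  have hτf : τ ≫ f ∣_ U = 𝟙 _ := by
    rw [← cancel_mono U.ι, Category.assoc, morphismRestrict_ι, ← Category.assoc, hτ, hσf, Category.id_comp]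
  haveI : IsClosedImmersion (τ ≫ f ∣_ U) := by rw [hτf]; infer_instance
  haveI : IsClosedImmersion τ := IsClosedImmersion.of_comp τ (f ∣_ U)
  haveI : Surjective τ := ⟨fun w => by
    have hr : Set.range τ = closure (Set.range τ) :=
      τ.isClosedEmbedding.isClosed_range.closure_eq.symm
    show w ∈ Set.range τ
    rw [hr]
    have hrange : Set.range τ = (f ⁻¹ᵁ U).ι ⁻¹' Set.range σ := by
      ext v
      refine ⟨fun ⟨a, ha⟩ => ⟨a, by rw [← ha, ← Scheme.Hom.comp_apply, hτ]⟩, fun ⟨a, ha⟩ => ⟨a, ?_⟩⟩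
      apply (f ⁻¹ᵁ U).ι.isEmbedding.injective
      rw [← Scheme.Hom.comp_apply, hτ, ha]
    rw [hrange, ← (f ⁻¹ᵁ U).ι.isOpenEmbedding.isOpenMap.preimage_closure_eq_closure_preimage
      (f ⁻¹ᵁ U).ι.continuous]
    show (f ⁻¹ᵁ U).ι w ∈ closure (Set.range σ)
    rw [c.isEmbedding.closure_eq_preimage_closure_image]
    have h1 : c '' Set.range σ = Set.range s := by
      rw [← Set.range_comp, ← hσ]
      rfl
    show c ((f ⁻¹ᵁ U).ι w) ∈ closure (c '' Set.range σ)
    rw [h1, ← hcr]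
    exact ⟨_, rfl⟩⟩
  haveI : IsIso τ := isIso_of_isClosedImmersion_of_surjective τ
  haveI : IsIso (f ∣_ U) := IsIso.of_isIso_fac_left hτf
  refine ⟨_, f, inferInstance, inferInstance, U, pb c O1,
    (Scheme.Modules.pullbackComp c π).inv.app E ≫ (Scheme.Modules.pullback c).map q,
    ⟨_, hηU⟩, inferInstance, inferInstance, CohCmpLib.rank_one_pullback c hP.invertible⟩

/-- Kernels of maps onto invertible modules drop the rank by one. -/
theorem rank_kernel [IsIntegral X] {n : ℕ} {E L : X.Modules} (hE : FlatMod.IsFinLocFreeOfRank (n + 1) E)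
    (hL : FlatMod.IsFinLocFreeOfRank 1 L) (q : E ⟶ L) [Epi q] : FlatMod.IsFinLocFreeOfRank n (kernel q) := by
  have hK := ResPropLib.isFinLocFree_kernel q (CurveVBLib.isFinLocFree_of_rank hE)
    (CurveVBLib.isFinLocFree_of_rank hL)
  let S : ShortComplex X.Modules := ShortComplex.mk (kernel.ι q) q (kernel.condition q)
  have hS : S.ShortExact :=
    { exact := ShortComplex.exact_of_f_is_kernel _ (kernelIsKernel q)
      mono_f := inferInstanceAs (Mono (kernel.ι q))
      epi_g := inferInstanceAs (Epi q) }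
  let x := genericPoint X
  obtain ⟨σ⟩ := ProjBunLib.nonempty_splitting hS hL x
  obtain ⟨e₁⟩ := ProjBunLib.free_stalk_of_rank (CurveVBLib.rank_genRank hK) x
  obtain ⟨e₂⟩ := ProjBunLib.free_stalk_of_rank hE x
  obtain ⟨e₃⟩ := ProjBunLib.free_stalk_of_rank hL x
  let T := S.map (DerSch.stalkFunctor X x)
  letI : Field (X.presheaf.stalk x) := (inferInstance : Field X.functionField)
  haveI : Module.Finite (X.presheaf.stalk x) T.X₂ := Module.Finite.equiv e₂.symm
  have hinj : Function.Injective T.f.hom := Function.LeftInverse.injective (g := σ.r.hom)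
    fun a => congr($(σ.f_r) a)
  have hsurj : Function.Surjective T.g.hom := fun b => ⟨σ.s.hom b, congr($(σ.s_g) b)⟩
  have hex : LinearMap.range T.f.hom = LinearMap.ker T.g.hom :=
    ((hS.map_of_exact (DerSch.stalkFunctor X x)).exact.moduleCat_range_eq_ker)
  have h := LinearMap.finrank_range_add_finrank_ker T.g.hom
  rw [LinearMap.range_eq_top.2 hsurj, finrank_top, ← hex, LinearMap.finrank_range_of_inj hinj] at h
  have h1 : Module.finrank (X.presheaf.stalk x) T.X₁ = CurvLib.genRank (kernel q) :=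
    e₁.finrank_eq.trans (Module.finrank_fin_fun _)
  have h2 : Module.finrank (X.presheaf.stalk x) T.X₂ = n + 1 :=
    e₂.finrank_eq.trans (Module.finrank_fin_fun _)
  have h3 : Module.finrank (X.presheaf.stalk x) T.X₃ = 1 :=
    e₃.finrank_eq.trans (Module.finrank_fin_fun _)
  have : CurvLib.genRank (kernel q) = n := by omega
  exact this ▸ CurveVBLib.rank_genRank hK

theorem exists_filt : ∀ (n : ℕ) (X : Scheme.{u}) [IsIntegral X] (E : X.Modules),
    FlatMod.IsFinLocFreeOfRank n E →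
    ∃ (X' : Scheme.{u}) (f : X' ⟶ X) (_ : IsIntegral X') (_ : IsProper f) (U : X.Opens),
      (U : Set X).Nonempty ∧ IsIso (f ∣_ U) ∧ ProjBunLib.HasFilt n (pb f E)
  | 0, X, _, E, hE => ⟨X, 𝟙 X, inferInstance, inferInstance, ⊤, ⟨genericPoint X, trivial⟩, inferInstance,
      (ProjBunLib.hasFilt_zero hE).of_iso ((Scheme.Modules.pullbackId X).app E).symm⟩
  | n + 1, X, _, E, hE => by
    obtain ⟨X₁, f₁, hi₁, hp₁, U₁, L, q, ⟨x₁, hx₁⟩, hU₁, hq, hL⟩ := exists_invertible_quotient hE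
    haveI := hi₁; haveI := hq; haveI := hU₁
    have hE₁ : FlatMod.IsFinLocFreeOfRank (n + 1) (pb f₁ E) := SeesawLib.isFinLocFreeOfRank_pullback f₁ hE
    obtain ⟨X₂, f₂, hi₂, hp₂, U₂, hU₂ne, hU₂, hfilt⟩ := exists_filt n X₁ (kernel q) (rank_kernel hE₁ hL q)
    haveI := hU₂
    let S : ShortComplex X₁.Modules := ShortComplex.mk (kernel.ι q) q (kernel.condition q)
    have hS : S.ShortExact :=
      { exact := ShortComplex.exact_of_f_is_kernel _ (kernelIsKernel q)
        mono_f := inferInstanceAs (Mono (kernel.ι q))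
        epi_g := inferInstanceAs (Epi q) }
    have hS₂ := ProjBunLib.shortExact_pullback f₂ hS hL
    let W : X₁.Opens := f₁ ⁻¹ᵁ U₁
    haveI : Nonempty W := ⟨inv (f₁ ∣_ U₁) ⟨x₁, hx₁⟩⟩
    obtain ⟨w, hwW, hwU⟩ : ((W : Set X₁) ∩ U₂).Nonempty :=
      nonempty_preirreducible_inter W.isOpen U₂.isOpen
        (Set.nonempty_coe_sort.1 (inferInstance : Nonempty W)) hU₂ne
    let O : U₁.toScheme.Opens := ⟨f₁ ∣_ U₁ '' (W.ι ⁻¹' U₂),
      (f₁ ∣_ U₁).isOpenEmbedding.isOpenMap _ (U₂.isOpen.preimage W.ι.continuous)⟩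
    let U : X.Opens := U₁.ι ''ᵁ O
    have hUU₁ : U ≤ U₁ := fun a ⟨b, _, hb⟩ => hb ▸ b.2
    have hpre : f₁ ⁻¹ᵁ U ≤ U₂ := by
      intro v hv
      obtain ⟨b, ⟨v', hv', rfl⟩, hb⟩ := hv
      have hvW : v ∈ W := hUU₁ (show f₁ v ∈ U from ⟨_, ⟨v', hv', rfl⟩, hb⟩)
      have : (f₁ ∣_ U₁) v' = (f₁ ∣_ U₁) ⟨v, hvW⟩ := Subtype.ext (hb.trans (morphismRestrict_base_coe f₁ U₁ ⟨v, hvW⟩).symm)
      have h2 := (f₁ ∣_ U₁).isOpenEmbedding.injective this
      rw [h2] at hv'
      exact hv'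
    refine ⟨X₂, f₂ ≫ f₁, hi₂, inferInstance, U, ⟨_, _, ⟨⟨w, hwW⟩, hwU, rfl⟩, rfl⟩, ?_, ?_⟩
    · rw [morphismRestrict_comp]
      haveI := ModifLib.isIso_restrict_of_le f₁ hUU₁
      haveI := ModifLib.isIso_restrict_of_le f₂ hpre
      infer_instance
    · exact (hfilt.extend _ hS₂ ((CohCmpLib.invertible_iff_rank_one _).2
        (CohCmpLib.rank_one_pullback f₂ hL))).of_iso ((Scheme.Modules.pullbackComp f₂ f₁).app E)

theorem exists_modification_filtration [IsIntegral X] (E : X.Modules) (hE : FlatMod.IsFinLocFree E) :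
    ∃ (X' : Scheme.{u}) (f : X' ⟶ X) (_ : IsIntegral X') (_ : IsProper f) (U : X.Opens) (_ : (U : Set ↥X).Nonempty)
      (_ : IsIso (f ∣_ U)) (r : ℕ) (M : Fin (r + 1) → X'.Modules) (L : Fin r → X'.Modules),
      IsZero (M 0) ∧ Nonempty (M (Fin.last r) ≅ (Scheme.Modules.pullback f).obj E) ∧
        ∀ i : Fin r, PicF.IsInvertible (L i) ∧
          ∃ S : ShortComplex X'.Modules, S.ShortExact ∧ Nonempty (S.X₁ ≅ M i.castSucc) ∧
            Nonempty (S.X₂ ≅ M i.succ) ∧ Nonempty (S.X₃ ≅ L i) := by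
  obtain ⟨X', f, hi, hp, U, hne, hiso, M, L, a, b, h0, he, hL, hex⟩ :=
    exists_filt _ X E (CurveVBLib.rank_genRank hE)
  refine ⟨X', f, hi, hp, U, hne, hiso, _, M, L, h0, he, fun i => ⟨hL i, ?_⟩⟩
  obtain ⟨h, hse⟩ := hex i
  exact ⟨_, hse, ⟨Iso.refl _⟩, ⟨Iso.refl _⟩, ⟨Iso.refl _⟩⟩

end Groth.Agent.ModFiltLib
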